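import Groth.Agent.LocalCrit.Flatness
import Mathlib
import Mathlib.Tactic.LinearCombination
import Mathlib.RingTheory.AdicCompletion.Algebra
import Mathlib.RingTheory.AdicCompletion.AsTensorProduct

/-!
Flatness along a principal ideal, and torsion of an algebra which becomes flat over a completion.
-/

set_option autoImplicit false
set_option synthInstance.maxHeartbeats 200000

universe u

open TensorProduct

namespace Groth.Agent.FlatCpl

section Crit

variable {A B : Type u} [CommRing A] [CommRing B] [Algebra A B]

theorem keepsInjective_of_flat_over (I : Ideal A) (h : LocalCrit.KeepsInjective I B)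
    (M : Type u) [AddCommGroup M] [Module A M] [Module B M] [IsScalarTower A B M] [Module.Flat B M] :
    LocalCrit.KeepsInjective I M := by
  intro N N' _ _ _ _ g hN hN' hg
  have h1 : Function.Injective (g.lTensor B) := by
    have := h g hN hN' hg
    rwa [← LinearMap.lTensor_inj_iff_rTensor_inj] at this
  have h2 : Function.Injective
      ((TensorProduct.AlgebraTensorModule.lTensor B B g).lTensor M) :=
    Module.Flat.lTensor_preserves_injective_linearMap (M := M) _ h1
  rw [← LinearMap.lTensor_inj_iff_rTensor_inj]
  let e := TensorProduct.AlgebraTensorModule.cancelBaseChange A B B M N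
  let e' := TensorProduct.AlgebraTensorModule.cancelBaseChange A B B M N'
  have key : ∀ x, g.lTensor M (e x) = e' ((TensorProduct.AlgebraTensorModule.lTensor B B g).lTensor M x) := by
    intro x
    induction x using TensorProduct.induction_on with
    | zero => simp
    | add x y hx hy => simp [map_add, hx, hy]
    | tmul m y =>
      induction y using TensorProduct.induction_on with
      | zero => simp
      | add x y hx hy => simp [TensorProduct.tmul_add, map_add, hx, hy]
      | tmul b n => simp [e, e']
  intro x y hxy
  obtain ⟨x, rfl⟩ := e.surjective x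
  obtain ⟨y, rfl⟩ := e.surjective y
  rw [key, key] at hxy
  rw [h2 (e'.injective hxy)]

variable [IsNoetherianRing A] [IsNoetherianRing B] (t : A) (q : Ideal B) [q.IsPrime]

/-- Flatness at a prime containing a nonzerodivisor, from flatness modulo it. -/
theorem flat_localization_of_flat_quotient (htB : IsSMulRegular B t)
    (htq : algebraMap A B t ∈ q)
    (h : Module.Flat (A ⧸ Ideal.span {t}) ((A ⧸ Ideal.span {t}) ⊗[A] B)) :
    Module.Flat A (LocalizedModule q.primeCompl B) := by
  let L := Localization.AtPrime q
  suffices Module.Flat A L from Module.Flat.of_linearEquiv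
    ((IsLocalizedModule.iso q.primeCompl (Algebra.linearMap B L)).restrictScalars A)
  let I := Ideal.span {t}
  have : Module.Flat B L := IsLocalization.flat L q.primeCompl
  have : IsNoetherianRing L := IsLocalization.isNoetherianRing q.primeCompl L ‹_›
  have htL : IsSMulRegular L t := by
    rw [isSMulRegular_iff_right_eq_zero_of_smul]
    intro x hx
    obtain ⟨b, s, rfl⟩ := IsLocalization.exists_mk'_eq q.primeCompl x
    rw [Algebra.smul_def, IsScalarTower.algebraMap_apply A B L,
      IsLocalization.mul_mk'_eq_mk'_of_mul, IsLocalization.mk'_eq_zero_iff] at hx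
    obtain ⟨u, hu⟩ := hx
    refine (IsLocalization.mk'_eq_zero_iff _ _).2 ⟨u, ?_⟩
    refine (isSMulRegular_iff_right_eq_zero_of_smul.1 htB) _ ?_
    rw [Algebra.smul_def]
    linear_combination hu
  have hinj : Function.Injective (I.subtype.rTensor L) := by
    have hgen : ∀ z : I ⊗[A] L, ∃ y : L, z = (⟨t, Ideal.mem_span_singleton_self t⟩ : I) ⊗ₜ y := by
      intro z
      induction z using TensorProduct.induction_on with
      | zero => exact ⟨0, by simp⟩
      | add x y hx hy =>
        obtain ⟨a, rfl⟩ := hx
        obtain ⟨b, rfl⟩ := hy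
        exact ⟨a + b, (TensorProduct.tmul_add _ _ _).symm⟩
      | tmul a y =>
        obtain ⟨c, hc⟩ := Ideal.mem_span_singleton'.1 a.2
        refine ⟨c • y, ?_⟩
        rw [← TensorProduct.smul_tmul]
        congr 1
        exact Subtype.ext hc.symm
    refine (injective_iff_map_eq_zero _).2 fun z hz => ?_
    obtain ⟨y, rfl⟩ := hgen z
    have h0 : TensorProduct.lid A L ((t : A) ⊗ₜ[A] y) = 0 := by
      rw [show (t : A) ⊗ₜ[A] y = 0 from hz, map_zero]
    rw [TensorProduct.lid_tmul] at h0
    rw [(isSMulRegular_iff_right_eq_zero_of_smul.1 htL) y h0, TensorProduct.tmul_zero]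
  refine LocalCrit.flat_of_le_jacobson (B := L) (M := L) I ?_ hinj
    (keepsInjective_of_flat_over I (LocalCrit.keepsInjective_of_flat I B) L)
  refine le_trans ?_ (IsLocalRing.maximalIdeal_le_jacobson _)
  rw [Ideal.map_span, Set.image_singleton, Ideal.span_le, Set.singleton_subset_iff,
    IsScalarTower.algebraMap_apply A B L, SetLike.mem_coe,
    IsLocalization.AtPrime.to_map_mem_maximal_iff L q]
  exact htq

end Crit

/-- An algebra whose base change to the completion is flat has no `t`-torsion. -/
theorem isSMulRegular_of_flat_completion {A B : Type u} [CommRing A] [IsNoetherianRing A] [CommRing B]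
    [Algebra A B] [IsNoetherianRing B] (t : A) (htA : IsSMulRegular A t)
    (h : Module.Flat (AdicCompletion (Ideal.span {t}) A) (AdicCompletion (Ideal.span {t}) A ⊗[A] B)) :
    IsSMulRegular B t := by
  let C := AdicCompletion (Ideal.span {t}) A
  have htC : IsSMulRegular C (algebraMap A C t) := by
    have hi : Function.Injective ((LinearMap.lsmul A A t).rTensor C) :=
      Module.Flat.rTensor_preserves_injective_linearMap _ htA
    rw [isSMulRegular_iff_right_eq_zero_of_smul]
    intro c hc
    have h1 : (LinearMap.lsmul A A t).rTensor C (1 ⊗ₜ c) = 0 := by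
      rw [LinearMap.rTensor_tmul, LinearMap.lsmul_apply, ← TensorProduct.smul_tmul',
        ← TensorProduct.tmul_smul]
      rw [← algebraMap_smul C t c, hc, TensorProduct.tmul_zero]
    have h2 := congrArg (TensorProduct.lid A C) (hi (h1.trans (map_zero _).symm))
    simpa using h2
  rw [isSMulRegular_iff_right_eq_zero_of_smul]
  have step : ∀ (k : ℕ) (b : B), t ^ k • b = 0 → ∃ b' : B, b = t • b' := by
    intro k b hb
    have hi : Function.Injective
        ((LinearMap.lsmul C C (algebraMap A C t ^ k)).rTensor (C ⊗[A] B)) :=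
      Module.Flat.rTensor_preserves_injective_linearMap _ (htC.pow k)
    have hD : (1 : C) ⊗ₜ[A] b = 0 := by
      have h1 : (algebraMap A C t ^ k) • ((1 : C) ⊗ₜ[A] b) = 0 := by
        rw [← map_pow, algebraMap_smul, ← TensorProduct.tmul_smul, hb, TensorProduct.tmul_zero]
      have h2 : (LinearMap.lsmul C C (algebraMap A C t ^ k)).rTensor (C ⊗[A] B)
          ((1 : C) ⊗ₜ[C] ((1 : C) ⊗ₜ[A] b)) = 0 := by
        rw [LinearMap.rTensor_tmul, LinearMap.lsmul_apply, TensorProduct.smul_tmul, h1,
          TensorProduct.tmul_zero]
      have h3 := congrArg (TensorProduct.lid C (C ⊗[A] B)) (hi (h2.trans (map_zero _).symm))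
      simpa using h3
    have h4 := congrArg
      (Algebra.TensorProduct.map (AdicCompletion.evalOneₐ (Ideal.span {t})) (AlgHom.id A B)) hD
    rw [map_zero, Algebra.TensorProduct.map_tmul, map_one, AlgHom.id_apply] at h4
    have h5 := congrArg (TensorProduct.quotTensorEquivQuotSMul B (Ideal.span {t})) h4
    rw [map_zero] at h5
    have h6 : (Submodule.Quotient.mk b : B ⧸ (Ideal.span {t} • ⊤ : Submodule A B)) = 0 := by
      rw [← h5]
      refine Eq.trans ?_ (TensorProduct.quotTensorEquivQuotSMul_mk_tmul _ (1 : A) b).symm
      rw [one_smul]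
    rw [Submodule.Quotient.mk_eq_zero, Submodule.ideal_span_singleton_smul,
      Submodule.mem_smul_pointwise_iff_exists] at h6
    obtain ⟨b', -, hb'⟩ := h6
    exact ⟨b', hb'.symm⟩
  intro b hb
  have hpow : ∀ n : ℕ, ∃ b' : B, b = t ^ n • b' := by
    intro n
    induction n with
    | zero => exact ⟨b, by simp⟩
    | succ n ih =>
      obtain ⟨b', hb'⟩ := ih
      obtain ⟨b'', hb''⟩ := step (n + 1) b' (by rw [pow_succ', mul_smul, ← hb', hb])
      exact ⟨b'', by rw [hb', hb'', smul_smul, pow_succ]⟩
  let t' := algebraMap A B t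
  obtain ⟨r, hr⟩ := (Ideal.mem_iInf_smul_pow_eq_bot_iff (Ideal.span {t'}) b).1 (by
    rw [Submodule.mem_iInf]
    intro n
    obtain ⟨b', hb'⟩ := hpow n
    rw [hb', smul_eq_mul, Ideal.mul_top, Algebra.smul_def, map_pow]
    exact Ideal.mul_mem_right _ _ (Ideal.pow_mem_pow (Ideal.mem_span_singleton_self t') n))
  obtain ⟨c, hc⟩ := Ideal.mem_span_singleton'.1 r.2
  rw [← hr, smul_eq_mul, ← hc, mul_assoc, ← Algebra.smul_def, hb, mul_zero]

end Groth.Agent.FlatCpl
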