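import Groth.Agent.FlatCpl.Alg
import Groth.Agent.FlatLocus.Basic
import Groth.Agent.FibFlat.Core
import Groth.Agent.S2155

/-!
Proper schemes over a Noetherian affine base and their base change to an adic completion.
-/

set_option autoImplicit false
set_option synthInstance.maxHeartbeats 200000
set_option backward.isDefEq.respectTransparency false
set_option backward.isDefEq.respectTransparency.types false

universe u

open CategoryTheory CategoryTheory.Limits AlgebraicGeometry TensorProduct

namespace Groth.Agent.FlatCpl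

variable {A B : Type u} [CommRing A] [CommRing B] [Algebra A B] {X : Scheme.{u}}

theorem flat_tensor_of_flat_pullback (C : Type u) [CommRing C] [Algebra A C]
    (h : X ⟶ Spec (.of A)) (j : Spec (.of B) ⟶ X) [IsOpenImmersion j]
    (hj : j ≫ h = Spec.map (CommRingCat.ofHom (algebraMap A B)))
    [Flat (pullback.snd h (Spec.map (CommRingCat.ofHom (algebraMap A C))))] :
    Module.Flat C (C ⊗[A] B) := by
  let c := Spec.map (CommRingCat.ofHom (algebraMap A C))
  have hf : Flat (pullback.snd (j ≫ h) c) := by
    rw [← pullbackRightPullbackFstIso_inv_snd_snd h c j]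
    infer_instance
  rw [hj] at hf
  have sq := isPullback_SpecMap_of_isPushout _ _ _ _ (CommRingCat.isPushout_tensorProduct A B C)
  have e : Flat (Spec.map (CommRingCat.ofHom
      (Algebra.TensorProduct.includeRight (R := A) (A := B) (B := C)).toRingHom)) := by
    rw [← sq.isoPullback_hom_snd]
    infer_instance
  rw [Flat.SpecMap_iff] at e
  let φ : B ⊗[A] C ≃ₐ[A] C ⊗[A] B := Algebra.TensorProduct.comm A B C
  have e' : (φ.toRingEquiv.toRingHom.comp
      (Algebra.TensorProduct.includeRight (R := A) (A := B) (B := C)).toRingHom).Flat :=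
    RingHom.Flat.comp e (RingHom.Flat.of_bijective φ.toRingEquiv.bijective)
  rw [← RingHom.flat_algebraMap_iff]
  convert e' using 1
  ext x
  simp [φ, Algebra.TensorProduct.algebraMap_apply]

theorem exists_chart (h : X ⟶ Spec (.of A)) (x : X) :
    ∃ (B : Type u) (_ : CommRing B) (_ : Algebra A B) (j : Spec (.of B) ⟶ X) (_ : IsOpenImmersion j)
      (z : Spec (.of B)), j z = x ∧ j ≫ h = Spec.map (CommRingCat.ofHom (algebraMap A B)) := by
  obtain ⟨U, hU, hxU, -⟩ := exists_isAffineOpen_mem_and_subset (U := (⊤ : X.Opens)) (x := x) trivial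
  let φ := Spec.preimage (hU.fromSpec ≫ h)
  let _ : Algebra A Γ(X, U) := φ.hom.toAlgebra
  obtain ⟨z, hz⟩ : x ∈ Set.range hU.fromSpec := by rw [hU.range_fromSpec]; exact hxU
  exact ⟨Γ(X, U), inferInstance, inferInstance, hU.fromSpec, inferInstance, z, hz,
    (Spec.map_preimage (hU.fromSpec ≫ h)).symm⟩

theorem isNoetherianRing_chart [IsNoetherianRing A] (h : X ⟶ Spec (.of A)) [LocallyOfFiniteType h]
    (j : Spec (.of B) ⟶ X) [IsOpenImmersion j]
    (hj : j ≫ h = Spec.map (CommRingCat.ofHom (algebraMap A B))) : IsNoetherianRing B := by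
  have : LocallyOfFiniteType (Spec.map (CommRingCat.ofHom (algebraMap A B))) := hj ▸ inferInstance
  rw [HasRingHomProperty.Spec_iff (P := @LocallyOfFiniteType)] at this
  have : Algebra.FiniteType A B := RingHom.finiteType_algebraMap.1 this
  exact Algebra.FiniteType.isNoetherianRing A B

/-- Flatness at a point over `V(t)`. -/
theorem flat_stalk_of_flat_quotient {V : Type u} [CommRing V] [Algebra V A] [IsNoetherianRing A] (ϖ : V)
    (hϖ : IsSMulRegular V ϖ) (h : X ⟶ Spec (.of A)) [LocallyOfFiniteType h]
    (hV : Flat (h ≫ Spec.map (CommRingCat.ofHom (algebraMap V A))))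
    (h₀ : Flat (pullback.snd h (Spec.map (CommRingCat.ofHom (algebraMap A (A ⧸ Ideal.span {algebraMap V A ϖ}))))))
    (x : X) (hx : algebraMap V A ϖ ∈ (h x).asIdeal) : (h.stalkMap x).hom.Flat := by
  obtain ⟨B, _, instAB, j, _, z, rfl, hj⟩ := exists_chart h x
  have := isNoetherianRing_chart h j hj
  have key : (h.stalkMap (j z)).hom.Flat ↔
      Module.Flat A (LocalizedModule (z : PrimeSpectrum B).asIdeal.primeCompl B) := by
    rw [← FibFlat.flat_stalk_open_comp j h z, hj]
    refine (FlatLocus.stalkMap_flat_SpecMap _ z).trans ?_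
    have e : (CommRingCat.ofHom (algebraMap A B)).hom.toAlgebra = instAB := Algebra.algebra_ext _ _ fun _ => rfl
    rw [e]
  rw [key]
  let t := algebraMap V A ϖ
  letI : Algebra V B := ((algebraMap A B).comp (algebraMap V A)).toAlgebra
  have : IsScalarTower V A B := IsScalarTower.of_algebraMap_eq' rfl
  have hVB : Module.Flat V B := by
    have : Flat (Spec.map (CommRingCat.ofHom (algebraMap V B))) := by
      have e : CommRingCat.ofHom (algebraMap V B) =
          CommRingCat.ofHom (algebraMap V A) ≫ CommRingCat.ofHom (algebraMap A B) := rfl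
      rw [e, Spec.map_comp, ← hj, Category.assoc]
      infer_instance
    rw [Flat.SpecMap_iff] at this
    exact RingHom.flat_algebraMap_iff.1 this
  have htB : IsSMulRegular B t := by
    rw [isSMulRegular_iff_right_eq_zero_of_smul]
    intro b hb
    refine (isSMulRegular_iff_right_eq_zero_of_smul.1 (hϖ.of_flat (S := B))) b ?_
    rw [smul_eq_mul, ← hb, Algebra.smul_def]
    rfl
  refine flat_localization_of_flat_quotient t _ htB ?_ (flat_tensor_of_flat_pullback _ h j hj)
  have e : (h (j z)).asIdeal = (z : PrimeSpectrum B).asIdeal.comap (algebraMap A B) := by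
    rw [← Scheme.Hom.comp_apply, hj]
    rfl
  rw [e] at hx
  exact hx

/-- If the base change to the completion is flat, then so is `X` over a discrete valuation ring. -/
theorem flat_of_flat_completion {V : Type u} [CommRing V] [IsDomain V] [IsDiscreteValuationRing V]
    [Algebra V A] [Module.Flat V A] [IsNoetherianRing A] (ϖ : V) (hϖ : Irreducible ϖ)
    (h : X ⟶ Spec (.of A)) [LocallyOfFiniteType h]
    [Flat (pullback.snd h (Spec.map (CommRingCat.ofHom
      (algebraMap A (AdicCompletion (Ideal.span {algebraMap V A ϖ}) A)))))] :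
    Flat (h ≫ Spec.map (CommRingCat.ofHom (algebraMap V A))) := by
  refine Flat.of_stalkMap _ fun x => ?_
  obtain ⟨B, _, _, j, _, z, rfl, hj⟩ := exists_chart h x
  have := isNoetherianRing_chart h j hj
  let t := algebraMap V A ϖ
  letI : Algebra V B := ((algebraMap A B).comp (algebraMap V A)).toAlgebra
  have : IsScalarTower V A B := IsScalarTower.of_algebraMap_eq' rfl
  have htA : IsSMulRegular A t := (IsSMulRegular.of_ne_zero hϖ.ne_zero).of_flat
  have htB := isSMulRegular_of_flat_completion t htA (flat_tensor_of_flat_pullback (B := B) _ h j hj)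
  have : Module.IsTorsionFree V B := by
    refine Module.isTorsionFree_iff_smul_eq_zero.2 fun v b hvb => ?_
    by_cases hv : v = 0
    · exact Or.inl hv
    obtain ⟨n, w, rfl⟩ := IsDiscreteValuationRing.eq_unit_mul_pow_irreducible hv hϖ
    refine Or.inr ((isSMulRegular_iff_right_eq_zero_of_smul.1 (htB.pow n)) b ?_)
    rw [mul_smul] at hvb
    have := (smul_eq_zero_iff_eq w).1 hvb
    rwa [← algebraMap_smul A, map_pow] at this
  have hf : Flat (Spec.map (CommRingCat.ofHom (algebraMap V B))) := by
    rw [Flat.SpecMap_iff]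
    exact RingHom.flat_algebraMap_iff.2 inferInstance
  have e : CommRingCat.ofHom (algebraMap V B) =
      CommRingCat.ofHom (algebraMap V A) ≫ CommRingCat.ofHom (algebraMap A B) := rfl
  rw [e, Spec.map_comp, ← hj, Category.assoc] at hf
  exact (FibFlat.flat_stalk_open_comp j _ z).1 (Flat.stalkMap _ _)

/-- An open set containing all points over `V(I)` pulls back to everything over the completion. -/
theorem fst_mem_of_forall (I : Ideal A) (hI : I.FG) (h : X ⟶ Spec (.of A)) [IsProper h] (G : X.Opens)
    (hG : ∀ x, I ≤ (h x).asIdeal → x ∈ G)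
    (z : ↑(pullback h (Spec.map (CommRingCat.ofHom (algebraMap A (AdicCompletion I A)))))) :
    pullback.fst h (Spec.map (CommRingCat.ofHom (algebraMap A (AdicCompletion I A)))) z ∈ G := by
  let c := Spec.map (CommRingCat.ofHom (algebraMap A (AdicCompletion I A)))
  by_contra hz
  let Z : Set ↑(pullback h c) := (pullback.fst h c ⁻¹' (G : Set X))ᶜ
  have hZ : IsClosed (pullback.snd h c '' Z) :=
    (pullback.snd h c).isClosedMap _ (G.isOpen.preimage (pullback.fst h c).continuous).isClosed_compl
  let p : PrimeSpectrum (AdicCompletion I A) := pullback.snd h c z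
  obtain ⟨m, hm, hpm⟩ := Ideal.exists_le_maximal p.asIdeal p.isPrime.ne_top
  have hmem : (⟨m, hm.isPrime⟩ : PrimeSpectrum (AdicCompletion I A)) ∈ pullback.snd h c '' Z :=
    ((PrimeSpectrum.le_iff_specializes p ⟨m, hm.isPrime⟩).1 hpm).mem_closed hZ ⟨z, hz, rfl⟩
  obtain ⟨z', hz', he⟩ := hmem
  refine hz' (hG _ ?_)
  rw [← Scheme.Hom.comp_apply, pullback.condition, Scheme.Hom.comp_apply, he]
  have := AdicCompletion.isAdicComplete_self I hI
  have hle : I.map (algebraMap A (AdicCompletion I A)) ≤ m :=
    (IsAdicComplete.le_jacobson_bot _).trans (sInf_le ⟨bot_le, hm⟩)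
  exact Ideal.map_le_iff_le_comap.1 hle

theorem flat_completion_of_forall [IsNoetherianRing A] (I : Ideal A) (h : X ⟶ Spec (.of A)) [IsProper h]
    (hf : ∀ x, I ≤ (h x).asIdeal → (h.stalkMap x).hom.Flat) :
    Flat (pullback.snd h (Spec.map (CommRingCat.ofHom (algebraMap A (AdicCompletion I A))))) := by
  let c := Spec.map (CommRingCat.ofHom (algebraMap A (AdicCompletion I A)))
  have : IsLocallyNoetherian (Spec (CommRingCat.of A)) := inferInstance
  have : LocallyOfFinitePresentation h := LocallyOfFinitePresentation.iff_locallyOfFiniteType.2 inferInstance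
  refine Flat.of_stalkMap _ fun z => ?_
  exact FibFlat.flat_stalk_of_isPullback (IsPullback.of_hasPullback h c) z
    (fst_mem_of_forall I (IsNoetherian.noetherian I) h ⟨_, FlatLocus.isOpen_flat_locus h⟩ hf z)

theorem smooth_completion_of_forall [IsNoetherianRing A] (I : Ideal A) (h : X ⟶ Spec (.of A))
    [IsProper h] [LocallyOfFinitePresentation h] (hf : ∀ x, I ≤ (h x).asIdeal → x ∈ h.smoothLocus) :
    Smooth (pullback.snd h (Spec.map (CommRingCat.ofHom (algebraMap A (AdicCompletion I A))))) := by
  let c := Spec.map (CommRingCat.ofHom (algebraMap A (AdicCompletion I A)))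
  have hc : Flat c := by
    rw [Flat.SpecMap_iff]
    exact RingHom.flat_algebraMap_iff.2 (AdicCompletion.flat_of_isNoetherian I)
  rw [← Scheme.Hom.smoothLocus_eq_top_iff,
    S2155.result h c (pullback.snd h c) (pullback.fst h c) (IsPullback.of_hasPullback h c) (Or.inr hc),
    eq_top_iff]
  exact fun z _ => fst_mem_of_forall I (IsNoetherian.noetherian I) h _ hf z

theorem mem_smoothLocus_of_smooth_pullback (I : Ideal A) (h : X ⟶ Spec (.of A))
    [LocallyOfFinitePresentation h] (G : X.Opens) [Flat (G.ι ≫ h)]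
    [Smooth (pullback.snd h (Spec.map (CommRingCat.ofHom (Ideal.Quotient.mk I))))]
    (x : X) (hx : I ≤ (h x).asIdeal) (hxG : x ∈ G) : x ∈ h.smoothLocus := by
  let c := Spec.map (CommRingCat.ofHom (Ideal.Quotient.mk I))
  have hs : Smooth (pullback.snd (G.ι ≫ h) c) := by
    rw [← pullbackRightPullbackFstIso_inv_snd_snd h c G.ι]
    infer_instance
  obtain ⟨p, hp⟩ : (h x : PrimeSpectrum A) ∈ Set.range c := by
    show (h x : PrimeSpectrum A) ∈ Set.range (PrimeSpectrum.comap (Ideal.Quotient.mk I))
    rw [range_comap_of_surjective _ _ Ideal.Quotient.mk_surjective, Ideal.mk_ker]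
    exact hx
  obtain ⟨z, hz, -⟩ := Scheme.Pullback.exists_preimage_pullback (f := G.ι ≫ h) (g := c) (⟨x, hxG⟩ : G) p
    (by rw [hp]; rfl)
  have h1 := S2155.result (G.ι ≫ h) c (pullback.snd (G.ι ≫ h) c) (pullback.fst (G.ι ≫ h) c)
    (IsPullback.of_hasPullback _ _) (Or.inl inferInstance)
  have h2 : (⟨x, hxG⟩ : G) ∈ (G.ι ≫ h).smoothLocus := by
    have : z ∈ (pullback.snd (G.ι ≫ h) c).smoothLocus := by
      rw [Scheme.Hom.smoothLocus_eq_top]; trivial
    rw [h1] at this
    rw [← hz]
    exact this
  rw [← Scheme.Hom.preimage_smoothLocus_eq] at h2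
  exact h2

theorem pullback_snd_quotient_of_completion {P : MorphismProperty Scheme.{u}} [P.IsStableUnderBaseChange]
    (I : Ideal A) (h : X ⟶ Spec (.of A))
    (hP : P (pullback.snd h (Spec.map (CommRingCat.ofHom (algebraMap A (AdicCompletion I A)))))) :
    P (pullback.snd h (Spec.map (CommRingCat.ofHom (Ideal.Quotient.mk I)))) := by
  let c := Spec.map (CommRingCat.ofHom (algebraMap A (AdicCompletion I A)))
  let c₀ := Spec.map (CommRingCat.ofHom (Ideal.Quotient.mk I))
  let e := Spec.map (CommRingCat.ofHom (AdicCompletion.evalOneₐ I).toRingHom)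
  have he : e ≫ c = c₀ := by
    rw [← Spec.map_comp, ← CommRingCat.ofHom_comp, AdicCompletion.evalOneₐ_comp_algebraMap_eq_mk]
  let ℓ : pullback h c₀ ⟶ pullback h c :=
    pullback.lift (pullback.fst h c₀) (pullback.snd h c₀ ≫ e)
      (by rw [pullback.condition, Category.assoc, he])
  have sq : IsPullback ℓ (pullback.snd h c₀) (pullback.snd h c) e :=
    IsPullback.of_right (by rw [pullback.lift_fst, he]; exact IsPullback.of_hasPullback h c₀)
      (pullback.lift_snd _ _ _) (IsPullback.of_hasPullback h c)
  exact P.of_isPullback sq hP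

end Groth.Agent.FlatCpl
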